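import Mathlib
import Groth.Prelude.Def_RelSpec

/-!
# Relative spectrum: `gammaMap` is an isomorphism and the universal property

* `RelSpecLib.isIso_gammaAff`, `isIso_gammaMap`, `gammaInv`;
* `lift g ω hω : T ⟶ A.spec` for `ω : A ⟶ g_* O_T` compatible with the structure maps,
  `ι_lift`, `lift_π`, `lift_unique`;
* `hom_ext_charts`: morphisms out of `A.spec` are determined on charts over small affine opens.
-/

noncomputable section

universe u

open CategoryTheory Limits AlgebraicGeometry Opposite TopologicalSpace RelSpec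

namespace RelSpecLib

variable {S : Scheme.{u}} (A : QCAlg S)

set_option backward.isDefEq.respectTransparency false in
theorem isIso_gammaAff (U : S.Opens) (hU : IsAffineOpen U) : IsIso (A.gammaAff U hU) := by
  have : IsIso ((A.ι U hU).appLE (A.π ⁻¹ᵁ U) ⊤ (A.top_le_preimage U hU)) := by
    have h : A.ι U hU ⁻¹ᵁ (A.π ⁻¹ᵁ U) = ⊤ := top_le_iff.mp (A.top_le_preimage U hU)
    have : IsIso ((A.ι U hU).app (A.π ⁻¹ᵁ U)) :=
      Scheme.Hom.isIso_app _ _ (A.π_preimage U hU).le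
    rw [Scheme.Hom.appLE, show (homOfLE (A.top_le_preimage U hU)) = eqToHom h.symm from rfl]
    infer_instance
  dsimp only [QCAlg.gammaAff]
  infer_instance

theorem isIso_gammaMap : IsIso A.gammaMap := by
  have : ∀ U : S.AffineZariskiSiteᵒᵖ, IsIso (A.gammaRestrict.app U) := fun U =>
    isIso_gammaAff A U.unop.1 U.unop.2
  have : IsIso A.gammaRestrict := NatIso.isIso_of_isIso_app _
  let ℱ : TopCat.Sheaf CommRingCat.{u} S.carrier :=
    (TopCat.Sheaf.pushforward CommRingCat.{u} A.π.base).obj A.spec.sheaf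
  let ℱ' : TopCat.Sheaf CommRingCat.{u} S.carrier := ⟨A.presheaf, A.isSheaf⟩
  let α : ℱ ⟶ ℱ' := ⟨A.gammaMap⟩
  have : IsIso α := by
    apply Functor.IsCoverDense.iso_of_restrict_iso (G := Scheme.AffineZariskiSite.toOpensFunctor S) α
    show IsIso ((Scheme.AffineZariskiSite.toOpensFunctor S).op.whiskerLeft A.gammaMap)
    rw [A.gammaMap_restrict]; infer_instance
  obtain ⟨β, h₁, h₂⟩ := this.out
  exact ⟨⟨β.hom, congrArg (·.hom) h₁, congrArg (·.hom) h₂⟩⟩

/-- the universal family `A ⟶ π_* O` -/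
def gammaInv : A.presheaf ⟶ A.π.base _* A.spec.presheaf :=
  haveI := isIso_gammaMap A
  inv A.gammaMap

@[reassoc]
theorem gammaInv_gammaMap : gammaInv A ≫ A.gammaMap = 𝟙 _ := by
  haveI := isIso_gammaMap A
  exact IsIso.inv_hom_id _

theorem str_gammaInv : A.str ≫ gammaInv A = A.π.c := by
  haveI := isIso_gammaMap A
  rw [gammaInv, IsIso.comp_inv_eq, A.π_c_gammaMap]

theorem ι_res_le {V U : S.Opens} (hV : IsAffineOpen V) (hU : IsAffineOpen U) (h : V ≤ U) :
    Spec.map (A.presheaf.map (homOfLE h).op) ≫ A.ι U hU = A.ι V hV := by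
  classical
  let J := {p : Γ(S, V) × Γ(S, U) // S.basicOpen p.1 = S.basicOpen p.2}
  let res : ∀ j : J, Spec (A.presheaf.obj (op (S.basicOpen j.1.1))) ⟶ Spec (A.presheaf.obj (op V)) :=
    fun j => Spec.map (A.presheaf.map (homOfLE (S.basicOpen_le j.1.1)).op)
  have hres : ∀ j : J, res j ≫ A.ι V hV = A.ι _ (hV.basicOpen j.1.1) := fun j =>
    A.ι_res (U := ⟨V, hV⟩) (V := ⟨_, hV.basicOpen j.1.1⟩) (homOfLE ⟨j.1.1, rfl⟩)
  have hoi : ∀ j : J, IsOpenImmersion (res j) := fun j =>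
    haveI : IsOpenImmersion (res j ≫ A.ι V hV) := by rw [hres j]; infer_instance
    IsOpenImmersion.of_comp (res j) (A.ι V hV)
  let 𝒰 : (Spec (A.presheaf.obj (op V))).OpenCover :=
    Scheme.openCoverOfIsOpenCover _ (fun j : J => Scheme.Hom.opensRange (res j)) <| by
      refine .mk (top_le_iff.mp fun x _ => ?_)
      have hxV : A.π (A.ι V hV x) ∈ V := by
        have : A.ι V hV x ∈ A.π ⁻¹ᵁ V := by rw [A.π_preimage V hV]; exact ⟨x, rfl⟩
        exact this
      obtain ⟨f, g, hfg, hxf⟩ := exists_basicOpen_le_affine_inter hV hU _ ⟨hxV, h hxV⟩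
      have hm : A.ι V hV x ∈ A.π ⁻¹ᵁ S.basicOpen f := hxf
      rw [A.π_preimage _ (hV.basicOpen f)] at hm
      obtain ⟨z, hz⟩ := hm
      rw [← congr($(hres ⟨(f, g), hfg⟩) z), Scheme.Hom.comp_apply] at hz
      obtain ⟨y, hy⟩ : ∃ y, A.ι V hV (res ⟨(f, g), hfg⟩ y) = A.ι V hV x := ⟨z, hz⟩
      exact Opens.mem_iSup.mpr ⟨⟨(f, g), hfg⟩, y, (A.ι V hV).isOpenEmbedding.injective hy⟩
  refine Scheme.Cover.hom_ext 𝒰 _ _ fun j => ?_
  have hj := hoi j
  show (Scheme.Hom.opensRange (res j)).ι ≫ _ = (Scheme.Hom.opensRange (res j)).ι ≫ _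
  rw [← cancel_epi (res j).isoOpensRange.hom, Scheme.Hom.isoOpensRange_hom_ι_assoc,
    Scheme.Hom.isoOpensRange_hom_ι_assoc, hres j, ← Spec.map_comp_assoc, ← Functor.map_comp]
  exact A.ι_res (U := ⟨U, hU⟩) (V := ⟨_, hV.basicOpen j.1.1⟩) (homOfLE ⟨j.1.2, j.2.symm⟩)

section lift

variable {A} {T : Scheme.{u}} (g : T ⟶ S) (ω : A.presheaf ⟶ g.base _* T.presheaf)
  (hω : A.str ≫ ω = g.c)

/-- the local piece of `lift` over an affine open -/
def liftPiece (U : S.Opens) (hU : IsAffineOpen U) : (g ⁻¹ᵁ U).toScheme ⟶ A.spec :=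
  (g ⁻¹ᵁ U).toSpecΓ ≫
    Spec.map ((ω.app (op U) : A.presheaf.obj (op U) ⟶ Γ(T, g ⁻¹ᵁ U))) ≫ A.ι U hU

theorem liftPiece_res {V U : S.Opens} (hV : IsAffineOpen V) (hU : IsAffineOpen U) (h : V ≤ U) :
    T.homOfLE (g.preimage_mono h) ≫ liftPiece g ω U hU = liftPiece g ω V hV := by
  simp only [liftPiece]
  rw [← Scheme.Opens.toSpecΓ_SpecMap_presheaf_map_assoc, ← Spec.map_comp_assoc]
  have hn : (ω.app (op U) : A.presheaf.obj (op U) ⟶ Γ(T, g ⁻¹ᵁ U)) ≫
      T.presheaf.map (homOfLE (g.preimage_mono h)).op =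
      A.presheaf.map (homOfLE h).op ≫ (ω.app (op V) : A.presheaf.obj (op V) ⟶ Γ(T, g ⁻¹ᵁ V)) :=
    (ω.naturality (homOfLE h).op).symm
  rw [hn, Spec.map_comp_assoc, ι_res_le A hV hU h]

include hω in
theorem liftPiece_π (U : S.Opens) (hU : IsAffineOpen U) :
    liftPiece g ω U hU ≫ A.π = (g ⁻¹ᵁ U).ι ≫ g := by
  simp only [liftPiece, Category.assoc, A.ι_π, ← Spec.map_comp_assoc]
  have h1 : A.str.app (op U) ≫ (ω.app (op U) : A.presheaf.obj (op U) ⟶ Γ(T, g ⁻¹ᵁ U)) = g.app U :=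
    NatTrans.congr_app hω (op U)
  rw [h1]
  simp

set_option backward.defeqAttrib.useBackward true in
set_option backward.isDefEq.respectTransparency false in
/-- the morphism to the relative spectrum given by a map of algebras -/
def lift : T ⟶ A.spec :=
  Scheme.OpenCover.glueMorphismsOfLocallyDirected
    ((Scheme.AffineZariskiSite.directedCover S).pullback₁ g)
    (fun U => (pullbackRestrictIsoRestrict g _).hom ≫ liftPiece g ω U.1 U.2)
    fun {U V : S.AffineZariskiSite} i => by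
  have : (pullbackRestrictIsoRestrict g U.1).inv ≫
      Scheme.Cover.trans ((Scheme.AffineZariskiSite.directedCover S).pullback₁ g) i ≫
      (pullbackRestrictIsoRestrict g V.1).hom = T.homOfLE
        (g.preimage_mono (Scheme.AffineZariskiSite.toOpens_mono i.1.1)) := by
    rw [← cancel_mono (Scheme.Opens.ι _)]
    simp +instances [Scheme.Cover.trans, Scheme.Cover.locallyDirectedPullbackCover]
  rw [← Iso.inv_comp_eq, reassoc_of% this]
  exact liftPiece_res g ω U.2 V.2 (Scheme.AffineZariskiSite.toOpens_mono i.1.1)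

set_option backward.isDefEq.respectTransparency.types false in
set_option backward.defeqAttrib.useBackward true in
theorem ι_lift (U : S.Opens) (hU : IsAffineOpen U) :
    (g ⁻¹ᵁ U).ι ≫ lift g ω = liftPiece g ω U hU := by
  rw [← cancel_epi (pullbackRestrictIsoRestrict g U).hom, ← Category.assoc]
  trans ((Scheme.AffineZariskiSite.directedCover S).pullback₁ g).f ⟨U, hU⟩ ≫ lift g ω
  · congr 1; simp
  delta lift
  generalize_proofs
  apply Scheme.OpenCover.map_glueMorphismsOfLocallyDirected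
  assumption

include hω in
theorem lift_π : lift g ω ≫ A.π = g := by
  refine Scheme.Cover.hom_ext (T.openCoverOfIsOpenCover _
    (.comap (iSup_affineOpens_eq_top S) g.base.1)) _ _ fun U => ?_
  show (g ⁻¹ᵁ U.1).ι ≫ lift g ω ≫ A.π = (g ⁻¹ᵁ U.1).ι ≫ g
  rw [← Category.assoc, ι_lift g ω U.1 U.2, liftPiece_π g ω hω]

theorem lift_unique (v : T ⟶ A.spec)
    (hv : ∀ (U : S.Opens) (hU : IsAffineOpen U), (g ⁻¹ᵁ U).ι ≫ v = liftPiece g ω U hU) :
    v = lift g ω :=
  Scheme.Cover.hom_ext (T.openCoverOfIsOpenCover _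
    (.comap (iSup_affineOpens_eq_top S) g.base.1)) _ _ fun U =>
      (hv U.1 U.2).trans (ι_lift g ω U.1 U.2).symm

end lift

/-- morphisms out of a relative spectrum are determined on any covering family of charts -/
theorem hom_ext_charts {Y : Scheme.{u}} {f f' : A.spec ⟶ Y} {ι' : Type*} (W : ι' → S.Opens)
    (hW : ∀ i, IsAffineOpen (W i)) (hcov : IsOpenCover W)
    (h : ∀ i, A.ι (W i) (hW i) ≫ f = A.ι (W i) (hW i) ≫ f') : f = f' := by
  refine Scheme.Cover.hom_ext (A.spec.openCoverOfIsOpenCover _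
    (hcov.comap A.π.base.1)) _ _ fun i => ?_
  have hr : Set.range (A.π ⁻¹ᵁ W i).ι ⊆ Set.range (A.ι (W i) (hW i)) := by
    rw [Scheme.Opens.range_ι, A.π_preimage (W i) (hW i)]; exact subset_rfl
  show (A.π ⁻¹ᵁ W i).ι ≫ f = (A.π ⁻¹ᵁ W i).ι ≫ f'
  rw [← IsOpenImmersion.lift_fac (A.ι (W i) (hW i)) (A.π ⁻¹ᵁ W i).ι hr, Category.assoc,
    Category.assoc, h i]

end RelSpecLib
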